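import Cfsg.Agent.OreChev.Moves
import Cfsg.Agent.Chev.TwistedCells

/-!
Twisted groups: conjugating into the big cell, and changing the torus part inside a rank one group.
-/

set_option autoImplicit false

namespace CfsgLib.Chev

open Cfsg.Lie Matrix
open scoped MatrixGroups

/-- Prescribing the torus part inside a rank one group. -/
theorem sl2_move {M F : Type*} [Group M] [Field F] [Fintype F] (h3 : 3 ≤ Fintype.card F)
    (φ : SL(2, F) →* M) {h : M} {χ : Fˣ} (hh : ∀ g, h * φ g * h⁻¹ = φ (scaleSL χ g)) (w q : F)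
    (hne : χ ≠ 1 ∨ w ≠ 0 ∨ q ≠ 0) (t : Fˣ) :
    ∃ (l : SL(2, F)) (w' q' : F), φ l * (φ (eL w) * h * φ (RankOne.eX q)) * (φ l)⁻¹ =
      φ (eL w') * (φ (RankOne.eH t) * h) * φ (RankOne.eX q') := by
  classical
  set b := (χ : F) * q with hb
  set k : SL(2, F) := eL w * RankOne.eX b with hk
  obtain ⟨z, hz⟩ : ∃ z : F, z + w - z / (χ : F) * (z * b + 1 + w * b) ≠ 0 := by
    by_cases hw : w = 0
    · subst hw
      by_cases hq : b = 0
      · have hχ1 : χ ≠ 1 := by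
          rcases hne with h | h | h
          · exact h
          · exact absurd rfl h
          · exact absurd ((mul_eq_zero.mp hq).resolve_left χ.ne_zero) h
        refine ⟨1, fun h => hχ1 (Units.ext ?_)⟩
        rw [hq] at h
        field_simp at h
        rw [Units.val_one]
        linear_combination h
      · obtain ⟨z, hz0, hz1⟩ : ∃ z : F, z ≠ 0 ∧ z ≠ ((χ : F) - 1) / b := by
          obtain ⟨z, hz⟩ := Finset.exists_mem_notMem_of_card_lt_card
            (show ({0, ((χ : F) - 1) / b} : Finset F).card < (Finset.univ : Finset F).card by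
              rw [Finset.card_univ]
              exact lt_of_le_of_lt Finset.card_le_two (by omega))
          simp only [Finset.mem_insert, Finset.mem_singleton, not_or] at hz
          exact ⟨z, hz.2.1, hz.2.2⟩
        refine ⟨z, fun h => hz1 ?_⟩
        field_simp at h
        rw [eq_div_iff hq]
        have h' : z * ((χ : F) - 1 - z * b) = 0 := by linear_combination h
        linear_combination -((mul_eq_zero.mp h').resolve_left hz0)
    · exact ⟨0, by simpa using hw⟩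
  set k1 : SL(2, F) := eL z * k * scaleSL χ (eL z)⁻¹ with hk1
  have e10 : k1 1 0 ≠ 0 := by
    have e : k1 1 0 = z + w - z / (χ : F) * (z * b + 1 + w * b) := by
      show (((eL z * k * scaleSL χ (eL z)⁻¹ : SL(2, F))) : Matrix (Fin 2) (Fin 2) F) 1 0 = _
      rw [Matrix.SpecialLinearGroup.coe_mul, Matrix.SpecialLinearGroup.coe_mul, coe_scaleSL, hk,
        Matrix.SpecialLinearGroup.coe_mul, Matrix.SpecialLinearGroup.coe_inv, coe_eL, coe_eL,
        RankOne.coe_eX, Matrix.adjugate_fin_two]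
      simp [Matrix.mul_apply, Fin.sum_univ_two]
      ring
    rw [e]; exact hz
  set s := ((t : F) - k1 0 0) / k1 1 0 with hs
  set k2 : SL(2, F) := RankOne.eX s * k1 * scaleSL χ (RankOne.eX s)⁻¹ with hk2
  have e00 : k2 0 0 = (t : F) := by
    show (((RankOne.eX s * k1 * scaleSL χ (RankOne.eX s)⁻¹ : SL(2, F))) :
      Matrix (Fin 2) (Fin 2) F) 0 0 = _
    rw [Matrix.SpecialLinearGroup.coe_mul, Matrix.SpecialLinearGroup.coe_mul, coe_scaleSL,
      Matrix.SpecialLinearGroup.coe_inv, RankOne.coe_eX, Matrix.adjugate_fin_two]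
    simp [Matrix.mul_apply, Fin.sum_univ_two, Matrix.vecMul, dotProduct]
    rw [hs]
    field_simp
    ring
  have hdet := RankOne.det_eq k2
  rw [e00] at hdet
  have ek2 : k2 = eL (k2 1 0 / t) * RankOne.eH t * RankOne.eX (k2 0 1 / t) := by
    apply Subtype.ext
    show (k2 : Matrix (Fin 2) (Fin 2) F) = !![1, 0; k2 1 0 / (t : F), 1] *
      !![(t : F), 0; 0, ((t⁻¹ : Fˣ) : F)] * !![1, k2 0 1 / (t : F); 0, 1]
    ext x y
    fin_cases x <;> fin_cases y <;> simp [Matrix.mul_apply, Fin.sum_univ_two, e00] <;> field_simp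
    linear_combination hdet
  have hX : ∀ r, φ (RankOne.eX r) * h = h * φ (RankOne.eX ((χ⁻¹ : Fˣ) * r)) := by
    intro r
    have e : scaleSL χ (RankOne.eX (((χ⁻¹ : Fˣ) : F) * r)) = RankOne.eX r := by
      apply Subtype.ext
      rw [coe_scaleSL, RankOne.coe_eX, RankOne.coe_eX]
      simp
    have := hh (RankOne.eX (((χ⁻¹ : Fˣ) : F) * r))
    rw [e] at this
    rw [← this]; group
  refine ⟨RankOne.eX s * eL z, k2 1 0 / t, ((χ⁻¹ : Fˣ) : F) * (k2 0 1 / t), ?_⟩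
  set l : SL(2, F) := RankOne.eX s * eL z with hl
  have e1 : φ (eL w) * h * φ (RankOne.eX q) = φ k * h := by
    have hq' : ((χ⁻¹ : Fˣ) : F) * b = q := by rw [hb, ← mul_assoc, Units.inv_mul, one_mul]
    have := hX b
    rw [hq'] at this
    rw [hk, map_mul, mul_assoc, ← this, mul_assoc]
  have e2 : h * (φ l)⁻¹ = φ (scaleSL χ l⁻¹) * h := by
    rw [← hh, map_inv]; group
  rw [e1, mul_assoc (φ (eL _)), mul_assoc (φ (RankOne.eH t)), ← hX, ← mul_assoc, ← mul_assoc,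
    ← map_mul, ← map_mul, ← mul_assoc (φ _) _ h, ← map_mul, ← ek2, hk2, hk1, mul_assoc, mul_assoc,
    e2, hl]
  simp only [map_mul, map_inv, _root_.mul_inv_rev, mul_assoc]

namespace Tab.Good.Twisted

variable {D : ChevalleyDatum} {T : Tab D} {G : T.Good} {F : Type*} [Field F] {Φ : G.Graph F}
  (Z : Twisted Φ)
include Z

/-- Conjugate to `v h u` with prescribed torus part. -/
def CellT (L : List (Fin Z.nJ)) (g h : GL D.Idx F) : Prop :=
  ∃ y ∈ Z.G1, ∃ v ∈ Z.V1 L, ∃ u ∈ Z.U1, y * g * y⁻¹ = v * h * u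

/-- Every element is conjugate into the big cell, if this has more than half of the elements. -/
theorem exists_cellT [Finite F] {L : List (Fin Z.nJ)}
    (hL : ∀ s, IsPos D s.val → ¬ IsPos D (Z.pwT L s).val)
    (hcard : Nat.card Z.G1 < 2 * (Nat.card Z.U1 * Nat.card Z.H0 * Nat.card Z.U1))
    {g : GL D.Idx F} (hg : g ∈ Z.G1) : ∃ h ∈ Z.H0, Z.CellT L g h := by
  classical
  have := Fintype.ofFinite Z.G1
  have e := Z.card_cell L
  rw [Z.UT_longest hL] at e
  rw [← e, Nat.card_eq_fintype_card (α := Z.G1),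
    Nat.card_eq_fintype_card (α := {g : Z.G1 // Z.Cell L g}),
    Fintype.card_subtype (fun g : Z.G1 => Z.Cell L (g : GL D.Idx F))] at hcard
  set A := Finset.univ.filter fun x : Z.G1 => Z.Cell L (x : GL D.Idx F)
  obtain ⟨x, hx, hx'⟩ : ∃ x ∈ A, (⟨g, hg⟩ : Z.G1)⁻¹ * x ∈ A := by
    by_contra hc
    push Not at hc
    have hdis : Disjoint A (A.image fun x => (⟨g, hg⟩ : Z.G1) * x) := by
      rw [Finset.disjoint_right]
      intro x hx hxA
      obtain ⟨a, ha, rfl⟩ := Finset.mem_image.mp hx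
      exact hc _ hxA (by simpa using ha)
    have := (Finset.card_union_of_disjoint hdis).symm.trans_le (Finset.card_le_univ _)
    rw [Finset.card_image_of_injective _ (mul_right_injective _)] at this
    omega
  simp only [A, Finset.mem_filter, Finset.mem_univ, true_and] at hx hx'
  obtain ⟨u1, hu1, h1, hh1, w1, hw1, e1⟩ := hx
  obtain ⟨u2, hu2, h2, hh2, w2, hw2, e2⟩ := hx'
  simp only [Subgroup.coe_mul, Subgroup.coe_inv] at e2
  set n := Z.nT L
  set v := n * (w1 * w2⁻¹) * n⁻¹ with hv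
  have hvV : v ∈ Z.V1 L := by
    rw [Z.mem_V1, hv]
    simpa [n, mul_assoc] using mul_mem hw1 (inv_mem hw2)
  obtain ⟨u, hu, h, hh, eb⟩ := Z.inB_mul (Z.inB_inv ⟨u2, hu2, h2, hh2, rfl⟩)
    ⟨u1, hu1, h1, hh1, rfl⟩
  refine ⟨h, hh, v * (u2 * h2)⁻¹, mul_mem ?_ (inv_mem (mul_mem (Z.U1_le hu2) (Z.H0_le hh2))),
    v, hvV, h⁻¹ * u * h, by simpa using Z.H0_conj_U1 (inv_mem hh) hu, ?_⟩
  · rw [hv]
    exact mul_mem (mul_mem (Z.nT_mem L) (mul_mem (Z.U1_le hw1) (inv_mem (Z.U1_le hw2))))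
      (inv_mem (Z.nT_mem L))
  · have eg : g = (x : GL D.Idx F) * (g⁻¹ * x)⁻¹ := by group
    rw [eg, e2, e1, show v * h * (h⁻¹ * u * h) = v * (u * h) by group, ← eb, hv]
    group

/-- The fixed points of the radical of an orbit. -/
noncomputable def radT (J : Fin Z.nJ) : Subgroup (GL D.Idx F) :=
  Φ.Fix ⊓ D.unipotentRadical F (Fin.val '' {i | i ∈ Z.orb J})

/-- Its image under the representative of a word. -/
noncomputable def radV (L : List (Fin Z.nJ)) (J : Fin Z.nJ) : Subgroup (GL D.Idx F) :=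
  (Z.radT J).comap (MulAut.conj (Z.nT L)⁻¹).toMonoidHom

theorem mem_radV {L : List (Fin Z.nJ)} {J : Fin Z.nJ} {g : GL D.Idx F} :
    g ∈ Z.radV L J ↔ (Z.nT L)⁻¹ * g * Z.nT L ∈ Z.radT J := by
  simp [radV]

theorem radT_le_U1 (J : Fin Z.nJ) : Z.radT J ≤ Z.U1 := by
  refine inf_le_inf le_rfl ?_
  rw [G.rad_eq, G.posUnipotent_eq]
  exact G.US_mono fun s hs => hs.1

theorem radV_le_V1 (L : List (Fin Z.nJ)) (J : Fin Z.nJ) : Z.radV L J ≤ Z.V1 L :=
  Subgroup.comap_mono (Z.radT_le_U1 J)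

theorem parabolic_conj_radT {J : Fin Z.nJ} {y u : GL D.Idx F} (hy : y ∈ Φ.Fix)
    (hP : y ∈ D.parabolicSubgroup F (Fin.val '' {i | i ∈ Z.orb J})) (hu : u ∈ Z.radT J) :
    y * u * y⁻¹ ∈ Z.radT J :=
  ⟨Z.fix_conj hy hu.1, (Subgroup.mem_normalizer_iff.mp (G.rad_normal _ hP) u).mp hu.2⟩

theorem parabolic_conj_radV {L : List (Fin Z.nJ)} {J : Fin Z.nJ} {y v : GL D.Idx F}
    (hy : y ∈ Φ.Fix)
    (hP : (Z.nT L)⁻¹ * y * Z.nT L ∈ D.parabolicSubgroup F (Fin.val '' {i | i ∈ Z.orb J}))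
    (hv : v ∈ Z.radV L J) : y * v * y⁻¹ ∈ Z.radV L J := by
  rw [Z.mem_radV] at hv ⊢
  have hn := Z.le_fix (Z.nT_mem L)
  simpa [mul_assoc] using
    Z.parabolic_conj_radT (mul_mem (mul_mem (inv_mem hn) hy) hn) hP hv

theorem not_inJ_of_keep {J : Fin Z.nJ} {s : ℕ} (hs : s ∈ keepSet (Z.w J)) :
    ¬ T.InJ (Fin.val '' {i | i ∈ Z.orb J}) s := by
  obtain ⟨hlt, h1, h2⟩ := hs
  rintro ⟨-, hc⟩
  exact (Z.flip J ⟨s, hlt⟩ h1).mpr
    (fun i hi => hc i fun ⟨j, hj, e⟩ => hi (Fin.ext e ▸ hj)) h2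

/-- Splitting off the part of an orbit. -/
theorem U1_split (J : Fin Z.nJ) {u : GL D.Idx F} (hu : u ∈ Z.U1) :
    ∃ a ∈ Z.radT J, ∃ b ∈ Z.XJ J, u = a * b := by
  obtain ⟨h1, h2⟩ := Subgroup.mem_inf.mp hu
  rw [G.posUnipotent_eq] at h2
  obtain ⟨a, ha, b, hb, e⟩ := Z.split_fix J G.closed_pos h1 h2 fun s hs => hs.2.1
  refine ⟨a, ⟨ha.1, ?_⟩, b, hb, e⟩
  rw [G.rad_eq]
  exact G.US_mono (fun s hs => by exact ⟨hs.1, Z.not_inJ_of_keep hs.2⟩) ha.2

/-- Splitting of the opposite group. -/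
theorem V1_split (L : List (Fin Z.nJ)) (J : Fin Z.nJ) {v : GL D.Idx F} (hv : v ∈ Z.V1 L) :
    ∃ a ∈ Z.radV L J, ∃ b ∈ Z.XJ J, v = a * (Z.nT L * b * (Z.nT L)⁻¹) := by
  obtain ⟨a, ha, b, hb, e⟩ := Z.U1_split J (Z.mem_V1.mp hv)
  refine ⟨Z.nT L * a * (Z.nT L)⁻¹, by rw [Z.mem_radV]; simpa [mul_assoc] using ha, b, hb, ?_⟩
  calc v = Z.nT L * ((Z.nT L)⁻¹ * v * Z.nT L) * (Z.nT L)⁻¹ := by group
    _ = _ := by rw [e]; group

end Tab.Good.Twisted

end CfsgLib.Chev
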