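import Cfsg.Agent.Chev.RankOne
import Cfsg.Agent.Chev.SimpleGen
import Cfsg.Agent.Chev.Struct
import Cfsg.Agent.Chev.CentTorus

/-!
Every element of a Chevalley group is conjugate into the big cell; tools to move the torus part.
-/

set_option autoImplicit false

namespace CfsgLib.Chev

open Cfsg.Lie Matrix
open scoped MatrixGroups

/-- The negation of roots as a permutation. -/
def negPerm (D : ChevalleyDatum) : Equiv.Perm (Fin D.nroots) where
  toFun := Tab.negF
  invFun := Tab.negF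
  left_inv := Tab.negF_negF
  right_inv := Tab.negF_negF

/-- An element is conjugate to `x * u` under a finite group normalised by `x` and without fixed
points of `x`. -/
theorem exists_conj_mul_right {M : Type*} [Group M] (K : Subgroup M) [Finite K] {x : M}
    (hx : ∀ y ∈ K, x⁻¹ * y * x ∈ K) (hfix : ∀ y ∈ K, x * y = y * x → y = 1) {u : M} (hu : u ∈ K) :
    ∃ y ∈ K, x * u = y * x * y⁻¹ := by
  let f : K → K := fun y =>
    ⟨x⁻¹ * (y : M) * x * (y : M)⁻¹, mul_mem (hx _ y.2) (inv_mem y.2)⟩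
  have hinj : Function.Injective f := by
    intro a b h
    have e := congrArg Subtype.val h
    simp only [f] at e
    have e2 : (b : M)⁻¹ * a = 1 := by
      refine hfix _ (mul_mem (inv_mem b.2) a.2) ?_
      have e3 : (a : M) * x * (a : M)⁻¹ = b * x * (b : M)⁻¹ := by
        calc (a : M) * x * (a : M)⁻¹ = x * (x⁻¹ * a * x * (a : M)⁻¹) := by group
          _ = x * (x⁻¹ * b * x * (b : M)⁻¹) := by rw [e]
          _ = b * x * (b : M)⁻¹ := by group
      calc x * ((b : M)⁻¹ * a) = (b : M)⁻¹ * ((b : M) * x * (b : M)⁻¹) * a := by group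
        _ = (b : M)⁻¹ * ((a : M) * x * (a : M)⁻¹) * a := by rw [e3]
        _ = (b : M)⁻¹ * a * x := by group
    exact Subtype.ext (inv_mul_eq_one.mp e2).symm
  obtain ⟨y, hy⟩ := Finite.surjective_of_injective hinj ⟨u, hu⟩
  refine ⟨y, y.2, ?_⟩
  have : u = x⁻¹ * (y : M) * x * (y : M)⁻¹ := (congrArg Subtype.val hy).symm
  rw [this]; group

/-- The same on the other side. -/
theorem exists_conj_mul_left {M : Type*} [Group M] (K : Subgroup M) [Finite K] {x : M}
    (hx : ∀ y ∈ K, x * y * x⁻¹ ∈ K) (hfix : ∀ y ∈ K, x * y = y * x → y = 1) {v : M} (hv : v ∈ K) :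
    ∃ y ∈ K, v * x = y * x * y⁻¹ := by
  obtain ⟨y, hy, e⟩ := exists_conj_mul_right K (x := x⁻¹) (fun z hz => by simpa using hx z hz)
    (fun z hz h => hfix z hz (by
      calc x * z = x * (z * x⁻¹) * x := by group
        _ = x * (x⁻¹ * z) * x := by rw [h]
        _ = z * x := by group)) (inv_mem hv)
  refine ⟨y, hy, ?_⟩
  calc v * x = (x⁻¹ * v⁻¹)⁻¹ := by group
    _ = (y * x⁻¹ * y⁻¹)⁻¹ := by rw [e]
    _ = y * x * y⁻¹ := by group

namespace Tab

variable {D : ChevalleyDatum}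

/-- The negative roots other than the negative of a fundamental root. -/
def negUpSet (D : ChevalleyDatum) (i : Fin D.rank) : Set ℕ :=
  {s | s < D.nroots ∧ ¬ IsPos D s ∧ s ≠ negR D (D.simple i)}

namespace Good

variable {T : Tab D} (G : T.Good) {F : Type*} [Field F]
include G

theorem neg_split {n : GL D.Idx F} (hn : G.full.RootAct n (negPerm D)) (i : Fin D.rank)
    {v : GL D.Idx F} (hv : v ∈ D.negUnipotent F) :
    ∃ a ∈ G.US F (negUpSet D i), ∃ w : F, v = a * G.full.x (negR D (D.simple i)) w := by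
  rw [G.negUnipotent_eq] at hv
  have hu : n⁻¹ * v * n ∈ D.posUnipotent F := by
    rw [G.posUnipotent_eq]
    have key : ∀ {w : GL D.Idx F}, w ∈ G.US F {r | r < D.nroots ∧ ¬ D.nroots ≤ 2 * r} →
        n⁻¹ * w * n ∈ G.US F {r | IsPos D r} := by
      intro w hw
      refine (show n⁻¹ * w * n⁻¹⁻¹ ∈ _ from G.conj_US n⁻¹ (fun r hr t => ?_) hw) |> (by simpa using ·)
      obtain ⟨c, hc⟩ := hn
      set s := negF (⟨r, hr.1⟩ : Fin D.nroots)
      have e := (hc s).2.2.2 ((((c s)⁻¹ : Fˣ) : F) * t)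
      rw [← mul_assoc (c s : F), Units.mul_inv, one_mul,
        show negPerm D s = ⟨r, hr.1⟩ from negF_negF _] at e
      rw [inv_inv, ← e]
      have hs : IsPos D s.val := by
        rw [G.pos_negF]; exact fun h => hr.2 h.2
      simpa [mul_assoc] using G.x_mem_US (S := {r | IsPos D r}) hs _
    exact key hv
  obtain ⟨a, ha, t, e⟩ := G.pos_split_simple i hu
  obtain ⟨c, hc⟩ := hn
  refine ⟨n * a * n⁻¹, ?_, (c (G.full.simp' i) : F) * t, ?_⟩
  · refine G.conj_x_act ⟨c, hc⟩ (fun s hs => ⟨hs.1.1, ?_⟩) ha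
    refine ⟨Fin.isLt _, fun h => ?_, fun h => ?_⟩
    · exact (G.pos_negF (s := ⟨s, hs.1.1⟩)).mp h hs.1
    · have h' : negR D s = negR D (D.simple i) := h
      exact hs.2 (by rw [← Cert.negR_negR hs.1.1, h', Cert.negR_negR (G.full.simple_lt i.isLt)])
  · calc v = n * (n⁻¹ * v * n) * n⁻¹ := by group
      _ = (n * a * n⁻¹) * (n * G.full.x (D.simple i) t * n⁻¹) := by rw [e]; group
      _ = _ := by
        congr 1
        exact (hc (G.full.simp' i)).2.2.2 t

theorem x_conj_negUp {n : GL D.Idx F} (hn : G.full.RootAct n (negPerm D)) (i : Fin D.rank)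
    {r : ℕ} (hr : r = D.simple i ∨ r = negR D (D.simple i)) (t : F) {a : GL D.Idx F}
    (ha : a ∈ G.US F (negUpSet D i)) :
    G.full.x r t * a * (G.full.x r t)⁻¹ ∈ G.US F (negUpSet D i) := by
  obtain ⟨c, hc⟩ := hn
  have hrlt : r < D.nroots := by
    rcases hr with rfl | rfl
    · exact G.full.simple_lt i.isLt
    · exact Cert.negR_lt (G.full.simple_lt i.isLt)
  set s := negF (⟨r, hrlt⟩ : Fin D.nroots)
  have e := (hc s).2.2.2 ((((c s)⁻¹ : Fˣ) : F) * t)
  rw [← mul_assoc (c s : F), Units.mul_inv, one_mul,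
    show negPerm D s = ⟨r, hrlt⟩ from negF_negF _] at e
  -- move to the positive side
  have hb : n⁻¹ * a * n ∈ G.US F {s | IsPos D s ∧ s ≠ D.simple i} := by
    refine (show n⁻¹ * a * n⁻¹⁻¹ ∈ _ from G.conj_US n⁻¹ (fun m hm u => ?_) ha) |> (by simpa using ·)
    set m' := negF (⟨m, hm.1⟩ : Fin D.nroots)
    have e2 := (hc m').2.2.2 ((((c m')⁻¹ : Fˣ) : F) * u)
    rw [← mul_assoc (c m' : F), Units.mul_inv, one_mul,
      show negPerm D m' = ⟨m, hm.1⟩ from negF_negF _] at e2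
    rw [inv_inv, ← e2]
    have hm' : IsPos D m'.val := by rw [G.pos_negF]; exact fun h => hm.2.1 h
    simpa [mul_assoc] using
      G.x_mem_US (S := {s | IsPos D s ∧ s ≠ D.simple i}) ⟨hm', fun h => hm.2.2 (by
        rw [← Cert.negR_negR hm.1]; exact congrArg (negR D) h)⟩ _
  have hz : G.full.x s.val ((((c s)⁻¹ : Fˣ) : F) * t) * (n⁻¹ * a * n) *
      (G.full.x s.val ((((c s)⁻¹ : Fˣ) : F) * t))⁻¹ ∈
        G.US F {s | IsPos D s ∧ s ≠ D.simple i} := by
    rcases hr with rfl | rfl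
    · obtain ⟨v, hv⟩ := G.x_negR_simple_eq i ((((c s)⁻¹ : Fˣ) : F) * t)
      rw [show s.val = negR D (D.simple i) from rfl, hv]
      have h1 : (G.full.ns F i)⁻¹ * (n⁻¹ * a * n) * G.full.ns F i ∈
          G.US F {s | IsPos D s ∧ s ≠ D.simple i} := by
        have h := G.ns_conj_Up i (G.ns_conj_Up i (G.ns_conj_Up i hb))
        have h4 : G.full.ns F i * G.full.ns F i * (G.full.ns F i * G.full.ns F i) = 1 := by
          rw [G.full.ns_sq i.isLt, G.full.hr_simple_mul i.isLt (neg_ne_zero.mpr one_ne_zero)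
            (neg_ne_zero.mpr one_ne_zero), neg_mul_neg, one_mul, G.full.hr_simple_one i.isLt]
        have h5 : (G.full.ns F i)⁻¹ = G.full.ns F i * G.full.ns F i * G.full.ns F i :=
          inv_eq_of_mul_eq_one_right (by rw [← h4]; group)
        rw [h5]
        have h6 : G.full.ns F i = (G.full.ns F i * G.full.ns F i * G.full.ns F i)⁻¹ := by
          rw [← h5, inv_inv]
        nth_rewrite 4 [h6]
        simpa [mul_assoc] using h
      have := G.ns_conj_Up i (G.x_simple_conj_Up i v h1)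
      simpa [mul_assoc] using this
    · rw [show s.val = D.simple i from Cert.negR_negR (G.full.simple_lt i.isLt)]
      exact G.x_simple_conj_Up i _ hb
  have h := G.conj_x_act ⟨c, hc⟩ (S' := negUpSet D i) (fun s hs => ⟨hs.1.1,
    ⟨Fin.isLt _, fun h => (G.pos_negF (s := ⟨s, hs.1.1⟩)).mp h hs.1, fun h => hs.2 (by
      rw [← Cert.negR_negR hs.1.1, show negR D s = negR D (D.simple i) from h,
        Cert.negR_negR (G.full.simple_lt i.isLt)])⟩⟩) hz
  rw [show (⟨r, hrlt⟩ : Fin D.nroots).val = r from rfl] at e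
  rw [← e]
  simpa [mul_assoc] using h

theorem x_neg_simple_conj_Up (i : Fin D.rank) (t : F) {a : GL D.Idx F}
    (ha : a ∈ G.US F {s | IsPos D s ∧ s ≠ D.simple i}) :
    G.full.x (negR D (D.simple i)) t * a * (G.full.x (negR D (D.simple i)) t)⁻¹ ∈
      G.US F {s | IsPos D s ∧ s ≠ D.simple i} := by
  obtain ⟨v, hv⟩ := G.x_negR_simple_eq i t
  have h4 : G.full.ns F i * G.full.ns F i * (G.full.ns F i * G.full.ns F i) = 1 := by
    rw [G.full.ns_sq i.isLt, G.full.hr_simple_mul i.isLt (neg_ne_zero.mpr one_ne_zero)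
      (neg_ne_zero.mpr one_ne_zero), neg_mul_neg, one_mul, G.full.hr_simple_one i.isLt]
  have h5 : (G.full.ns F i)⁻¹ = G.full.ns F i * G.full.ns F i * G.full.ns F i :=
    inv_eq_of_mul_eq_one_right (by rw [← h4]; group)
  have h1 : (G.full.ns F i)⁻¹ * a * ((G.full.ns F i)⁻¹)⁻¹ ∈
      G.US F {s | IsPos D s ∧ s ≠ D.simple i} := by
    rw [h5]
    simpa [mul_assoc] using G.ns_conj_Up i (G.ns_conj_Up i (G.ns_conj_Up i ha))
  have h := G.ns_conj_Up i (G.x_simple_conj_Up i v h1)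
  rw [hv]
  simpa [mul_assoc] using h

theorem hom_mem_of_x (i : Fin D.rank) {K : Subgroup (GL D.Idx F)}
    (hx : ∀ t, G.full.x (D.simple i) t ∈ K)
    (hy : ∀ t, G.full.x (negR D (D.simple i)) t ∈ K) (g : SL(2, F)) :
    (G.rankOne F i).hom g ∈ K := by
  have hn : ∀ t, G.full.nr (D.simple i) t ∈ K := fun t =>
    mul_mem (mul_mem (hx _) (hy _)) (hx _)
  have hH : ∀ t, G.full.hr (D.simple i) t ∈ K := fun t => mul_mem (hn _) (hn _)
  show (G.rankOne F i).phi g ∈ K
  simp only [RankOne.phi]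
  split_ifs
  · exact mul_mem (hH _) (hx _)
  · exact mul_mem (mul_mem (mul_mem (hx _) (hH _)) (hn 1)) (hx _)

/-- The subgroup generated by the root groups of `± p_i` normalises both complements. -/
theorem hom_conj_Up (i : Fin D.rank) (g : SL(2, F)) {a : GL D.Idx F}
    (ha : a ∈ G.US F {s | IsPos D s ∧ s ≠ D.simple i}) :
    (G.rankOne F i).hom g * a * ((G.rankOne F i).hom g)⁻¹ ∈
      G.US F {s | IsPos D s ∧ s ≠ D.simple i} := by
  set K : Subgroup (GL D.Idx F) :=
    { carrier := {y | ∀ a ∈ G.US F {s | IsPos D s ∧ s ≠ D.simple i},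
        y * a * y⁻¹ ∈ G.US F {s | IsPos D s ∧ s ≠ D.simple i} ∧
        y⁻¹ * a * y ∈ G.US F {s | IsPos D s ∧ s ≠ D.simple i}}
      one_mem' := fun a ha => by simp [ha]
      mul_mem' := fun {y z} hy hz a ha => by
        refine ⟨?_, ?_⟩
        · simpa [mul_assoc] using (hy _ (hz a ha).1).1
        · simpa [mul_assoc] using (hz _ (hy a ha).2).2
      inv_mem' := fun {y} hy a ha => by simpa [and_comm] using hy a ha }
  have hx : ∀ t, G.full.x (D.simple i) t ∈ K := fun t a ha =>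
    ⟨G.x_simple_conj_Up i t ha, by simpa [G.full.x_inv] using G.x_simple_conj_Up i (-t) ha⟩
  have hy : ∀ t, G.full.x (negR D (D.simple i)) t ∈ K := fun t a ha =>
    ⟨G.x_neg_simple_conj_Up i t ha, by
      simpa [G.full.x_inv] using G.x_neg_simple_conj_Up i (-t) ha⟩
  exact (G.hom_mem_of_x i hx hy g a ha).1

theorem hom_conj_negUp {n : GL D.Idx F} (hn : G.full.RootAct n (negPerm D)) (i : Fin D.rank)
    (g : SL(2, F)) {a : GL D.Idx F} (ha : a ∈ G.US F (negUpSet D i)) :
    (G.rankOne F i).hom g * a * ((G.rankOne F i).hom g)⁻¹ ∈ G.US F (negUpSet D i) := by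
  set K : Subgroup (GL D.Idx F) :=
    { carrier := {y | ∀ a ∈ G.US F (negUpSet D i),
        y * a * y⁻¹ ∈ G.US F (negUpSet D i) ∧ y⁻¹ * a * y ∈ G.US F (negUpSet D i)}
      one_mem' := fun a ha => by simp [ha]
      mul_mem' := fun {y z} hy hz a ha => by
        refine ⟨?_, ?_⟩
        · simpa [mul_assoc] using (hy _ (hz a ha).1).1
        · simpa [mul_assoc] using (hz _ (hy a ha).2).2
      inv_mem' := fun {y} hy a ha => by simpa [and_comm] using hy a ha }
  have hx : ∀ {r : ℕ}, r = D.simple i ∨ r = negR D (D.simple i) → ∀ t, G.full.x r t ∈ K :=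
    fun hr t a ha => ⟨G.x_conj_negUp hn i hr t ha, by
      simpa [G.full.x_inv] using G.x_conj_negUp hn i hr (-t) ha⟩
  exact (G.hom_mem_of_x i (hx (Or.inl rfl)) (hx (Or.inr rfl)) g a ha).1

theorem negUp_le_neg (i : Fin D.rank) : G.US F (negUpSet D i) ≤ D.negUnipotent F := by
  rw [G.negUnipotent_eq]
  exact G.US_mono fun s hs => ⟨hs.1, fun h => hs.2.1 ⟨hs.1, h⟩⟩

end Good

end Tab

/-- A matrix of determinant one is upper, lower, upper unless it is upper triangular. -/
theorem sl2_ulu {F : Type*} [Field F] (l : SL(2, F)) (hc : l 1 0 ≠ 0) :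
    ∃ (p q : F) (L : SL(2, F)), (L : Matrix (Fin 2) (Fin 2) F) = !![1, 0; l 1 0, 1] ∧
      l = RankOne.eX p * L * RankOne.eX q := by
  have hdet := RankOne.det_eq l
  refine ⟨(l 0 0 - 1) / l 1 0, (l 1 1 - 1) / l 1 0,
    ⟨!![1, 0; l 1 0, 1], by simp [Matrix.det_fin_two]⟩, rfl, ?_⟩
  apply Subtype.ext
  show (l : Matrix (Fin 2) (Fin 2) F) = !![1, (l 0 0 - 1) / l 1 0; 0, 1] * !![1, 0; l 1 0, 1] *
    !![1, (l 1 1 - 1) / l 1 0; 0, 1]
  ext i j
  fin_cases i <;> fin_cases j <;>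
    simp [Matrix.mul_apply, Fin.sum_univ_two] <;>
    field_simp <;> first | linear_combination hdet | linear_combination (-1 : F) * hdet | ring

namespace Tab.Good

variable {D : ChevalleyDatum} {T : Tab D} (G : T.Good) {F : Type*} [Field F]
include G

/-- Left multiplication by a negative fundamental root element preserves `U U⁻ B`. -/
theorem x_neg_mul_bigSet {n : GL D.Idx F} (hn : G.full.RootAct n (negPerm D)) (i : Fin D.rank)
    (s : F) {u v b : GL D.Idx F} (hu : u ∈ D.posUnipotent F) (hv : v ∈ D.negUnipotent F)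
    (hb : b ∈ D.borelSubgroup F) :
    ∃ u' ∈ D.posUnipotent F, ∃ v' ∈ D.negUnipotent F, ∃ b' ∈ D.borelSubgroup F,
      G.full.x (negR D (D.simple i)) s * (u * v * b) = u' * v' * b' := by
  obtain ⟨a, ha, t, rfl⟩ := G.pos_split_simple i hu
  obtain ⟨V, hV, w, rfl⟩ := G.neg_split hn i hv
  set y := G.full.x (negR D (D.simple i)) s
  set X := G.full.x (D.simple i) t
  have ha' := G.x_neg_simple_conj_Up i s ha
  have hV1 := G.x_conj_negUp hn i (Or.inl rfl) t hV
  have hV2 := G.x_conj_negUp hn i (Or.inr rfl) s hV1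
  let A : SL(2, F) := ⟨!![1, 0; s, 1], by simp [Matrix.det_fin_two]⟩
  let C : SL(2, F) := ⟨!![1, 0; w, 1], by simp [Matrix.det_fin_two]⟩
  set φ := (G.rankOne F i).hom with hφ
  have hφX : ∀ r, φ (RankOne.eX r) = G.full.x (D.simple i) r := fun r => RankOne.phi_eX _ r
  set l := A * RankOne.eX t * C with hl
  have e0 : y * (a * X * (V * G.full.x (negR D (D.simple i)) w) * b) =
      (y * a * y⁻¹) * (y * (X * V * X⁻¹) * y⁻¹) * φ l * b := by
    rw [hl, map_mul, map_mul, hφX, hφ, G.rankOne_hom_lower i A s rfl,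
      G.rankOne_hom_lower i C w rfl]
    show _ = _ * _ * (y * X * _) * b
    group
  rw [e0]
  have haU : y * a * y⁻¹ ∈ D.posUnipotent F := G.Up_le_pos i ha'
  by_cases hc : l 1 0 = 0
  · have hlB : φ l ∈ D.borelSubgroup F := by
      show (G.rankOne F i).phi l ∈ _
      rw [RankOne.phi_zero _ hc]
      have h00 : l 0 0 ≠ 0 := fun h => by simpa [h, hc] using RankOne.det_eq l
      obtain ⟨d, hd⟩ := G.hr_simple_mem (F := F) i h00
      refine mul_mem ?_ (pos_le_borel G (G.x_mem_pos (G.pos_simp i) _))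
      show G.full.hr (D.simple i) (l 0 0) ∈ _
      rw [hd]
      exact G.borel_hT d
    exact ⟨_, haU, _, G.negUp_le_neg i hV2, φ l * b, mul_mem hlB hb, by simp only [y, X]; group⟩
  · obtain ⟨p, q, L, hL, el⟩ := sl2_ulu l hc
    rw [el, map_mul, map_mul, hφX, hφX, hφ, G.rankOne_hom_lower i L _ hL]
    have hV3 := G.x_conj_negUp hn i (Or.inl rfl) (-p) hV2
    refine ⟨y * a * y⁻¹ * G.full.x (D.simple i) p, mul_mem haU (G.x_mem_pos (G.pos_simp i) p),
      _, mul_mem (G.negUp_le_neg i hV3) (G.x_mem_neg (Cert.negR_lt (G.full.simple_lt i.isLt))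
        (fun h => G.negR_pos (G.pos_simp i) h.2) (l 1 0)),
      G.full.x (D.simple i) q * b, mul_mem (pos_le_borel G (G.x_mem_pos (G.pos_simp i) q)) hb, ?_⟩
    rw [← G.full.x_inv (D.simple i) p]
    simp only [y, X]
    group

/-- `G = U U⁻ B`. -/
theorem exists_bigSet {n : GL D.Idx F} (hn : G.full.RootAct n (negPerm D))
    {g : GL D.Idx F} (hg : g ∈ D.group F) :
    ∃ u ∈ D.posUnipotent F, ∃ v ∈ D.negUnipotent F, ∃ b ∈ D.borelSubgroup F,
      g = u * v * b := by
  let S : Set (GL D.Idx F) :=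
    {z | ∃ u ∈ D.posUnipotent F, ∃ v ∈ D.negUnipotent F, ∃ b ∈ D.borelSubgroup F, z = u * v * b}
  let K : Subgroup (GL D.Idx F) :=
    { carrier := {z | ∀ y ∈ S, z * y ∈ S ∧ z⁻¹ * y ∈ S}
      one_mem' := fun y hy => by simp [hy]
      mul_mem' := fun {a c} ha hc y hy => ⟨by
        simpa [mul_assoc] using (ha _ (hc y hy).1).1, by
        simpa [mul_assoc] using (hc _ (ha y hy).2).2⟩
      inv_mem' := fun {a} ha y hy => by simpa [and_comm] using ha y hy }
  have hUK : D.posUnipotent F ≤ K := by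
    rintro z hz _ ⟨u, hu, v, hv, b, hb, rfl⟩
    exact ⟨⟨z * u, mul_mem hz hu, v, hv, b, hb, by group⟩,
      ⟨z⁻¹ * u, mul_mem (inv_mem hz) hu, v, hv, b, hb, by group⟩⟩
  have hyK : ∀ (i : Fin D.rank) (t : F), G.full.x (negR D (D.simple i)) t ∈ K := by
    rintro i t _ ⟨u, hu, v, hv, b, hb, rfl⟩
    refine ⟨G.x_neg_mul_bigSet hn i t hu hv hb, ?_⟩
    rw [G.full.x_inv]
    exact G.x_neg_mul_bigSet hn i (-t) hu hv hb
  have hle : D.group F ≤ K := G.group_le_of_simple
    (fun i t => hUK (G.x_mem_pos (G.pos_simp i) t))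
    (fun i t => by rw [G.full.cert.neg_eq (G.full.simple_lt i.isLt)]; exact hyK i t)
  have h := ((hle hg) 1 ⟨1, one_mem _, 1, one_mem _, 1, one_mem _, by group⟩).1
  rw [mul_one] at h
  exact h

/-- Every element is conjugate into the big cell. -/
theorem exists_conj_cell {n : GL D.Idx F} (hn : G.full.RootAct n (negPerm D))
    {g : GL D.Idx F} (hg : g ∈ D.group F) :
    ∃ y ∈ D.group F, ∃ v ∈ D.negUnipotent F, ∃ c, ∃ u ∈ D.posUnipotent F,
      y * g * y⁻¹ = v * T.hT F c * u := by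
  obtain ⟨u, hu, v, hv, b, hb, rfl⟩ := G.exists_bigSet hn hg
  obtain ⟨a, ha, c, rfl⟩ := G.mem_borel.mp hb
  refine ⟨u⁻¹, inv_mem (G.borel_le_group (pos_le_borel G hu)), v, hv, c,
    (T.hT F c)⁻¹ * a * T.hT F c * u, mul_mem ?_ hu, by group⟩
  have h := G.diagonal_le_normalizer_pos (inv_mem
    (show T.hT F c ∈ D.diagonalSubgroup F by rw [G.full.diagonal_eq_range]; exact ⟨c, rfl⟩))
  rw [Subgroup.mem_normalizer_iff] at h
  simpa using (h a).mp ha

end Tab.Good

end CfsgLib.Chev
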