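import Cfsg.Agent.OreChev.Gauss

/-!
Conjugating inside the group of a fundamental root to prescribe the torus part of an element of the
big cell.
-/

set_option autoImplicit false

namespace CfsgLib.Chev

open Cfsg.Lie Matrix
open scoped MatrixGroups

variable {F : Type*} [Field F]

/-- The lower unitriangular matrix. -/
def eL (t : F) : SL(2, F) := ⟨!![1, 0; t, 1], by simp [Matrix.det_fin_two]⟩

theorem coe_eL (t : F) : (eL t : Matrix (Fin 2) (Fin 2) F) = !![1, 0; t, 1] := rfl

/-- Homomorphisms agreeing on the two unipotent subgroups are equal. -/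
theorem sl2_hom_ext {M : Type*} [Group M] {φ ψ : SL(2, F) →* M}
    (hX : ∀ t, φ (RankOne.eX t) = ψ (RankOne.eX t)) (hY : ∀ t, φ (eL t) = ψ (eL t)) : φ = ψ := by
  have key : ∀ g : SL(2, F), g 1 0 ≠ 0 → φ g = ψ g := by
    intro g hg
    obtain ⟨p, q, L, hL, e⟩ := sl2_ulu g hg
    have : L = eL (g 1 0) := Subtype.ext hL
    rw [e, this, map_mul, map_mul, map_mul, map_mul, hX, hX, hY]
  ext g
  by_cases hg : g 1 0 = 0
  · have h1 : ((eL 1 * g : SL(2, F)) : Matrix (Fin 2) (Fin 2) F) 1 0 ≠ 0 := by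
      have hdet := RankOne.det_eq g
      rw [Matrix.SpecialLinearGroup.coe_mul, coe_eL]
      simp [Matrix.mul_apply, Fin.sum_univ_two, hg]
      intro h
      simp [h, hg] at hdet
    have h2 := key _ h1
    rw [map_mul, map_mul, hY] at h2
    exact mul_left_cancel h2
  · exact key g hg

/-- Conjugation by `diag(z, 1)`. -/
def scaleSL (z : Fˣ) : SL(2, F) →* SL(2, F) where
  toFun g := ⟨!![g 0 0, (z : F) * g 0 1; (z : F)⁻¹ * g 1 0, g 1 1], by
    have h := RankOne.det_eq g
    simp [Matrix.det_fin_two]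
    field_simp
    linear_combination h⟩
  map_one' := by
    ext i j
    fin_cases i <;> fin_cases j <;> simp
  map_mul' g k := by
    apply Subtype.ext
    show (!![(g * k) 0 0, (z : F) * (g * k) 0 1; (z : F)⁻¹ * (g * k) 1 0, (g * k) 1 1] :
      Matrix (Fin 2) (Fin 2) F) = !![g 0 0, (z : F) * g 0 1; (z : F)⁻¹ * g 1 0, g 1 1] *
        !![k 0 0, (z : F) * k 0 1; (z : F)⁻¹ * k 1 0, k 1 1]
    have e : ∀ i j, (g * k) i j = g i 0 * k 0 j + g i 1 * k 1 j := fun i j => by
      simp [Matrix.SpecialLinearGroup.coe_mul, Matrix.mul_apply, Fin.sum_univ_two]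
    ext i j
    fin_cases i <;> fin_cases j <;> simp [e, Matrix.mul_apply, Fin.sum_univ_two] <;> field_simp

theorem coe_scaleSL (z : Fˣ) (g : SL(2, F)) : (scaleSL z g : Matrix (Fin 2) (Fin 2) F) =
    !![g 0 0, (z : F) * g 0 1; (z : F)⁻¹ * g 1 0, g 1 1] := rfl

namespace Tab.Good

variable {D : ChevalleyDatum} {T : Tab D} (G : T.Good)
include G

theorem hom_eX (i : Fin D.rank) (t : F) :
    (G.rankOne F i).hom (RankOne.eX t) = G.full.x (D.simple i) t := RankOne.phi_eX _ t

theorem hom_eL (i : Fin D.rank) (t : F) :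
    (G.rankOne F i).hom (eL t) = G.full.x (negR D (D.simple i)) t :=
  G.rankOne_hom_lower i _ t rfl

theorem hom_eH (i : Fin D.rank) (t : Fˣ) :
    (G.rankOne F i).hom (RankOne.eH t) = T.hT F (Pi.mulSingle i t) :=
  (RankOne.phi_eH _ t).trans (G.full.hT_single t).symm

/-- The torus acts on the group of a fundamental root by scaling. -/
theorem hT_conj_hom (i : Fin D.rank) (c : Fin D.rank → Fˣ) (g : SL(2, F)) :
    T.hT F c * (G.rankOne F i).hom g * (T.hT F c)⁻¹ =
      (G.rankOne F i).hom (scaleSL (T.chi (D.simple i) c) g) := by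
  have h : (MulAut.conj (T.hT F c)).toMonoidHom.comp (G.rankOne F i).hom =
      (G.rankOne F i).hom.comp (scaleSL (T.chi (D.simple i) c)) := by
    refine sl2_hom_ext (fun t => ?_) (fun t => ?_)
    · show T.hT F c * (G.rankOne F i).hom (RankOne.eX t) * (T.hT F c)⁻¹ = _
      rw [G.hom_eX, G.full.hT_conj (G.full.simple_lt i.isLt), MonoidHom.comp_apply]
      rw [← G.hom_eX]
      congr 1
      apply Subtype.ext
      rw [coe_scaleSL, RankOne.coe_eX, RankOne.coe_eX]
      simp
    · show T.hT F c * (G.rankOne F i).hom (eL t) * (T.hT F c)⁻¹ = _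
      rw [G.hom_eL, G.full.hT_conj (Cert.negR_lt (G.full.simple_lt i.isLt)), MonoidHom.comp_apply]
      rw [← G.hom_eL, G.chi_negR (G.full.simple_lt i.isLt)]
      congr 1
      apply Subtype.ext
      rw [coe_scaleSL, coe_eL, coe_eL]
      simp
  exact DFunLike.congr_fun h g

/-- A factor of a fundamental root moves past the complement. -/
theorem pos_split_left (i : Fin D.rank) {u : GL D.Idx F} (hu : u ∈ D.posUnipotent F) :
    ∃ q : F, ∃ a ∈ G.US F {s | IsPos D s ∧ s ≠ D.simple i},
      u = G.full.x (D.simple i) q * a := by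
  obtain ⟨a, ha, t, rfl⟩ := G.pos_split_simple i hu
  refine ⟨t, _, G.x_simple_conj_Up i (-t) ha, ?_⟩
  rw [← G.full.x_inv, inv_inv]
  group

/-- Prescribing the torus part along a fundamental coroot. -/
theorem move [Fintype F] (h3 : 3 ≤ Fintype.card F) {n : GL D.Idx F}
    (hn : G.full.RootAct n (negPerm D)) (i : Fin D.rank) {V a : GL D.Idx F}
    (hV : V ∈ G.US F (negUpSet D i)) (ha : a ∈ G.US F {s | IsPos D s ∧ s ≠ D.simple i})
    (w q : F) (c : Fin D.rank → Fˣ) (hne : T.chi (D.simple i) c ≠ 1 ∨ w ≠ 0 ∨ q ≠ 0) (t : Fˣ) :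
    ∃ y ∈ D.group F, ∃ V' ∈ G.US F (negUpSet D i),
      ∃ a' ∈ G.US F {s | IsPos D s ∧ s ≠ D.simple i}, ∃ w' q' : F,
        y * (V * G.full.x (negR D (D.simple i)) w * T.hT F c *
          (G.full.x (D.simple i) q * a)) * y⁻¹ =
        V' * G.full.x (negR D (D.simple i)) w' * T.hT F (Pi.mulSingle i t * c) *
          (G.full.x (D.simple i) q' * a') := by
  classical
  set φ := (G.rankOne F i).hom with hφ
  set χ := T.chi (D.simple i) c with hχ
  set b := (χ : F) * q with hb
  set k : SL(2, F) := eL w * RankOne.eX b with hk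
  -- choose the lower conjugation
  obtain ⟨z, hz⟩ : ∃ z : F, z + w - z / (χ : F) * (z * b + 1 + w * b) ≠ 0 := by
    by_cases hw : w = 0
    · subst hw
      by_cases hq : b = 0
      · have hχ1 : χ ≠ 1 := by
          rcases hne with h | h | h
          · exact h
          · exact absurd rfl h
          · exact absurd ((mul_eq_zero.mp hq).resolve_left χ.ne_zero) h
        refine ⟨1, fun h => hχ1 (Units.ext ?_)⟩
        rw [hq] at h
        field_simp at h
        rw [Units.val_one]
        linear_combination h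
      · obtain ⟨z, hz0, hz1⟩ : ∃ z : F, z ≠ 0 ∧ z ≠ ((χ : F) - 1) / b := by
          obtain ⟨z, hz⟩ := Finset.exists_mem_notMem_of_card_lt_card
            (show ({0, ((χ : F) - 1) / b} : Finset F).card < (Finset.univ : Finset F).card by
              rw [Finset.card_univ]
              exact lt_of_le_of_lt Finset.card_le_two (by omega))
          simp only [Finset.mem_insert, Finset.mem_singleton, not_or] at hz
          exact ⟨z, hz.2.1, hz.2.2⟩
        refine ⟨z, fun h => hz1 ?_⟩
        field_simp at h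
        rw [eq_div_iff hq]
        have h' : z * ((χ : F) - 1 - z * b) = 0 := by linear_combination h
        linear_combination -((mul_eq_zero.mp h').resolve_left hz0)
    · exact ⟨0, by simpa using hw⟩
  set k1 : SL(2, F) := eL z * k * scaleSL χ (eL z)⁻¹ with hk1
  have e10 : k1 1 0 ≠ 0 := by
    have e : k1 1 0 = z + w - z / (χ : F) * (z * b + 1 + w * b) := by
      show (((eL z * k * scaleSL χ (eL z)⁻¹ : SL(2, F))) : Matrix (Fin 2) (Fin 2) F) 1 0 = _
      rw [Matrix.SpecialLinearGroup.coe_mul, Matrix.SpecialLinearGroup.coe_mul, coe_scaleSL, hk,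
        Matrix.SpecialLinearGroup.coe_mul, Matrix.SpecialLinearGroup.coe_inv, coe_eL, coe_eL,
        RankOne.coe_eX, Matrix.adjugate_fin_two]
      simp [Matrix.mul_apply, Fin.sum_univ_two]
      ring
    rw [e]; exact hz
  set s := ((t : F) - k1 0 0) / k1 1 0 with hs
  set l := RankOne.eX s * eL z with hl
  set k2 : SL(2, F) := RankOne.eX s * k1 * scaleSL χ (RankOne.eX s)⁻¹ with hk2
  have e00 : k2 0 0 = (t : F) := by
    show (((RankOne.eX s * k1 * scaleSL χ (RankOne.eX s)⁻¹ : SL(2, F))) :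
      Matrix (Fin 2) (Fin 2) F) 0 0 = _
    rw [Matrix.SpecialLinearGroup.coe_mul, Matrix.SpecialLinearGroup.coe_mul, coe_scaleSL,
      Matrix.SpecialLinearGroup.coe_inv, RankOne.coe_eX, Matrix.adjugate_fin_two]
    simp [Matrix.mul_apply, Fin.sum_univ_two, Matrix.vecMul, dotProduct]
    rw [hs]
    field_simp
    ring
  have hdet := RankOne.det_eq k2
  rw [e00] at hdet
  have ek2 : k2 = eL (k2 1 0 / t) * RankOne.eH t * RankOne.eX (k2 0 1 / t) := by
    apply Subtype.ext
    show (k2 : Matrix (Fin 2) (Fin 2) F) = !![1, 0; k2 1 0 / (t : F), 1] *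
      !![(t : F), 0; 0, ((t⁻¹ : Fˣ) : F)] * !![1, k2 0 1 / (t : F); 0, 1]
    ext x y
    fin_cases x <;> fin_cases y <;> simp [Matrix.mul_apply, Fin.sum_univ_two, e00] <;> field_simp
    linear_combination hdet
  -- the identity in the group
  have emain : φ l * (G.full.x (negR D (D.simple i)) w * T.hT F c *
      G.full.x (D.simple i) q) * (φ l)⁻¹ = φ k2 * T.hT F c := by
    have e1 : G.full.x (negR D (D.simple i)) w * T.hT F c * G.full.x (D.simple i) q =
        φ k * T.hT F c := by
      rw [hk, map_mul, hφ, G.hom_eL, G.hom_eX, hb, ← G.full.hT_conj (G.full.simple_lt i.isLt)]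
      group
    have e2 : T.hT F c * (φ l)⁻¹ = φ (scaleSL χ l⁻¹) * T.hT F c := by
      rw [hχ, hφ, ← G.hT_conj_hom, map_inv]
      group
    rw [e1, hk2, hk1]
    simp only [mul_assoc]
    rw [e2, hl]
    simp only [map_mul, map_inv, _root_.mul_inv_rev, mul_assoc]
  have ek : φ k2 = G.full.x (negR D (D.simple i)) (k2 1 0 / t) * T.hT F (Pi.mulSingle i t) *
      G.full.x (D.simple i) (k2 0 1 / t) := by
    rw [← G.hom_eL, ← G.hom_eH, ← G.hom_eX, ← map_mul, ← map_mul, ← ek2, hφ]
  refine ⟨φ l, G.hom_mem_of_x i (fun r => G.x_mem_group _ r) (fun r => G.x_mem_group _ r) l,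
    φ l * V * (φ l)⁻¹, G.hom_conj_negUp hn i l hV,
    φ l * a * (φ l)⁻¹, G.hom_conj_Up i l ha, k2 1 0 / t,
    ((T.chi (D.simple i) c)⁻¹ : Fˣ) * (k2 0 1 / t), ?_⟩
  calc φ l * (V * G.full.x (negR D (D.simple i)) w * T.hT F c *
        (G.full.x (D.simple i) q * a)) * (φ l)⁻¹
      = (φ l * V * (φ l)⁻¹) * (φ l * (G.full.x (negR D (D.simple i)) w * T.hT F c *
          G.full.x (D.simple i) q) * (φ l)⁻¹) * (φ l * a * (φ l)⁻¹) := by group
    _ = _ := by
      rw [emain, ek]
      have e3 : G.full.x (D.simple i) (k2 0 1 / t) * T.hT F c = T.hT F c *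
          G.full.x (D.simple i) (((T.chi (D.simple i) c)⁻¹ : Fˣ) * (k2 0 1 / t)) := by
        have h := G.full.hT_conj (F := F) (G.full.simple_lt i.isLt) c
          (((T.chi (D.simple i) c)⁻¹ : Fˣ) * (k2 0 1 / t))
        rw [← mul_assoc, Units.mul_inv, one_mul] at h
        rw [← h]; group
      simp only [mul_assoc]
      rw [← mul_assoc (G.full.x (D.simple i) (k2 0 1 / t)) (T.hT F c), e3]
      simp only [map_mul, mul_assoc]

/-- The longest element inverts the torus. -/
theorem hT_conj_longest {n : GL D.Idx F} (hn : G.full.RootAct n (negPerm D))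
    (hnm : n ∈ D.monomialSubgroup F) (c : Fin D.rank → Fˣ) :
    n * T.hT F c * n⁻¹ = T.hT F c⁻¹ := by
  obtain ⟨d, hd⟩ : ∃ d, n * T.hT F c * n⁻¹ = T.hT F d := by
    have hH : T.hT F c ∈ D.diagonalSubgroup F := by rw [G.full.diagonal_eq_range]; exact ⟨c, rfl⟩
    have := G.diagonal_normal.conj_mem ⟨_, G.hT_mem_monomial c⟩ hH ⟨n, hnm⟩
    rw [Subgroup.mem_subgroupOf, G.full.diagonal_eq_range] at this
    obtain ⟨d, hd⟩ := this
    exact ⟨d, hd.symm⟩
  obtain ⟨e, he⟩ := hn
  have key : ∀ j < D.rank, T.chi (F := F) (D.simple j) (d * c) = 1 := by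
    intro j hj
    set p : Fin D.nroots := G.full.simp' ⟨j, hj⟩
    set r := negF p
    have hr : negPerm D r = p := negF_negF p
    have h1 := (he r).2.2.2 1
    rw [hr, mul_one] at h1
    have h2 : T.hT F d * G.full.x p.val (e r : F) * (T.hT F d)⁻¹ =
        G.full.x p.val ((e r : F) * (T.chi (F := F) r.val c : F)) := by
      have h3 := (he r).2.2.2 ((T.chi (F := F) r.val c : F) * 1)
      rw [hr, mul_one] at h3
      rw [← hd, ← h1, ← h3, ← mul_one (T.chi (F := F) r.val c : F),
        ← G.full.hT_conj r.isLt c 1]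
      group
    rw [G.full.hT_conj p.isLt] at h2
    have h4 : (T.chi (F := F) p.val d : F) * e r - (e r : F) * T.chi (F := F) r.val c = 0 := by
      refine G.x_eq_one p.isLt ?_
      rw [sub_eq_add_neg, ← G.full.x_add, h2, G.full.x_add, add_neg_cancel, G.full.x_zero]
    have h5 : T.chi (F := F) p.val d = T.chi (F := F) r.val c :=
      Units.ext (mul_right_cancel₀ (e r).ne_zero (by linear_combination h4))
    rw [map_mul, show D.simple j = p.val from rfl, h5,
      show r.val = negR D p.val from rfl, G.chi_negR p.isLt, inv_mul_cancel]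
  have h := (G.full.hT_eq_one_iff _).mpr key
  rw [map_mul] at h
  rw [hd, map_inv, eq_inv_iff_mul_eq_one]
  exact h

end Tab.Good

end CfsgLib.Chev
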